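import Cfsg.Agent.Lib.Ly27.Gen
import Cfsg.Agent.Lib.Schur.Perf
import Cfsg.Agent.S2047
/-! Carmichael systems, central extensions of `McL` by a group of order 3 -/
set_option autoImplicit false
set_option maxRecDepth 100000
namespace H27.LY
open H54 H27.W H27.MP Subgroup H95 Cfsg
variable {G : Type*} [Group G]

/-- the relators of `2.A_(m+2)` -/
def RCg (m : ℕ) : List (List ℕ) := (List.range m).map (fun i => [2 * i, 2 * i, 2 * i]) ++
  (((List.range m).flatMap fun i => ((List.range m).filter (· ≠ i)).map fun j =>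
    [2 * i, 2 * j, 2 * i, 2 * j, 3, 1, 3, 1]) ++ ([0, 2, 0, 2, 0, 2, 0, 2] ::
  (List.range m).map fun i => [2 * i, 0, 2, 0, 2, 2 * i + 1, 3, 1, 3, 1]))

structure Carm (y : ℕ → G) (m : ℕ) (t : G) : Prop where
  cube : ∀ i, i < m → y i ^ 3 = 1
  sq : ∀ i, i < m → ∀ j, j < m → i ≠ j → (y i * y j) ^ 2 = t
  t2 : t * t = 1
  comm : ∀ i, i < m → y i * t = t * y i

variable {y : ℕ → G} {m : ℕ} {t : G}

theorem evW_t (y : ℕ → G) : evW y [0, 2, 0, 2] = (y 0 * y 1) ^ 2 := by simp [xl, sq, mul_assoc]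

theorem rels_RCg : Rels (RCg m) y ↔ Carm y m (evW y [0, 2, 0, 2]) := by
  have e : ∀ l, evW y (l ++ [3, 1, 3, 1]) = 1 ↔ evW y l = evW y [0, 2, 0, 2] := fun l => by
    rw [evW_append, ← mul_inv_eq_one (a := evW y l)]; simp [xl, mul_assoc]
  have e1 : ∀ i j, evW y [2 * i, 2 * j, 2 * i, 2 * j, 3, 1, 3, 1] = 1 ↔
      (y i * y j) ^ 2 = evW y [0, 2, 0, 2] := fun i j =>
    (e [_, _, _, _]).trans (by simp only [evW_cons, xl_even, evW_nil, sq, mul_assoc, mul_one])
  have e2 : ∀ i, evW y [2 * i, 0, 2, 0, 2, 2 * i + 1, 3, 1, 3, 1] = 1 ↔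
      y i * evW y [0, 2, 0, 2] = evW y [0, 2, 0, 2] * y i := fun i => (e [_, _, _, _, _, _]).trans (by
    rw [evW_cons, ← mul_inv_eq_iff_eq_mul, mul_assoc, xl_even, ← xl_odd, ← mul_one (xl y _), ← evW_nil y,
      ← evW_cons, ← evW_append]; rfl)
  simp only [Rels, RCg, List.forall_mem_append, List.forall_mem_map, List.forall_mem_flatMap,
    List.forall_mem_cons, List.mem_range, List.mem_filter, e1, e2, decide_eq_true_eq]
  exact ⟨fun ⟨a, b, c, d⟩ => ⟨fun i hi => by simpa [xl_even, pow_three] using a i hi,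
    fun i hi j hj h => b i hi j ⟨hj, h.symm⟩, (evW_append y _ _).symm.trans c, d⟩,
    fun h => ⟨fun i hi => by simpa [xl_even, pow_three] using h.cube i hi,
      fun i hi j hj => h.sq i hi j hj.1 hj.2.symm, (evW_append y [0, 2, 0, 2] _).trans h.t2, h.comm⟩⟩

theorem Carm.eq (h : Carm y m t) (hm : 2 ≤ m) : evW y [0, 2, 0, 2] = t :=
  (evW_t y).trans (h.sq 0 (by omega) 1 hm zero_ne_one)

theorem Carm.rels (h : Carm y m t) (hm : 2 ≤ m) : Rels (RCg m) y := rels_RCg.2 (h.eq hm ▸ h)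

theorem Carm.rc (h : Carm y 6 t) : Rels RC y := (h.rels (by norm_num)).of_subL (by decide +kernel)

theorem Carm.rx (h : Carm y m t) (ρ : List ℕ) {k : ℕ} (e : ∀ i, i < k → nth ρ i < m ∧
    ∀ j, j < k → i ≠ j → nth ρ i ≠ nth ρ j) : Carm (rx y ρ) k t :=
  ⟨fun i hi => h.cube _ (e i hi).1, fun i hi j hj n => h.sq _ (e i hi).1 _ (e j hj).1 ((e i hi).2 j hj n),
    h.t2, fun i hi => h.comm _ (e i hi).1⟩

theorem Carm.congr (h : Carm y m t) {y' : ℕ → G} {k : ℕ} (hk : k ≤ m) (e : ∀ i, i < k → y' i = y i) :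
    Carm y' k t :=
  ⟨fun i hi => e i hi ▸ h.cube i (by omega), fun i hi j hj n => e i hi ▸ e j hj ▸
    h.sq i (by omega) j (by omega) n, h.t2, fun i hi => e i hi ▸ h.comm i (by omega)⟩

theorem Carm.map (h : Carm y m t) {G' : Type*} [Group G'] (f : G →* G') : Carm (fun i => f (y i)) m (f t) :=
  ⟨fun i hi => by rw [← map_pow, h.cube i hi, map_one], fun i hi j hj n => by
    rw [← map_mul, ← map_pow, h.sq i hi j hj n], by rw [← map_mul, h.t2, map_one],
    fun i hi => by rw [← map_mul, h.comm i hi, map_mul]⟩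

theorem Carm.of_map {G' : Type*} [Group G'] {f : G →* G'} (hf : Function.Injective f)
    (h : Carm (fun i => f (y i)) m (f t)) : Carm y m t :=
  ⟨fun i hi => hf (by rw [map_pow, h.cube i hi, map_one]), fun i hi j hj n => hf (by
    rw [map_pow, map_mul, h.sq i hi j hj n]), hf (by rw [map_mul, h.t2, map_one]),
    fun i hi => hf (by rw [map_mul, h.comm i hi, map_mul])⟩

theorem Carm.le (h : Carm y m t) : gen y m ≤ centralizer {t} := gen_le fun i hi => mem_cent_iff.2 (h.comm i hi)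

theorem range_fin (y : ℕ → G) (m : ℕ) : closure (Set.range fun i : Fin m => y i) = gen y m := by
  unfold gen; congr 1; ext g; exact ⟨fun ⟨i, h⟩ => ⟨i, i.2, h⟩, fun ⟨i, h, e⟩ => ⟨⟨i, h⟩, e⟩⟩

theorem bndCg (wf : wfL m (RCg m) = true) : Bnd (RCg m) m (m + 2).factorial := fun G _ x h => by
  have h' := rels_RCg.1 (rels_subGen wf h)
  have hg := gen_subGen x m
  generalize subGen x m = y at h' hg
  generalize evW y [0, 2, 0, 2] = z at h'
  obtain ⟨_, hf, hc⟩ := H72.AC.card_le_of_carm (fun i : Fin m => y i) (z := z)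
    (mem_center_iff.2 fun g => mem_cent_iff.1 ((hg.ge.trans h'.le) (mem_top g))) h'.t2
    (fun i => h'.cube i i.2) (fun i j hij => h'.sq i i.2 j j.2 (Fin.val_ne_of_ne hij) ▸ mem_zpowers _)
    ((range_fin y m).trans hg)
  refine ⟨hf, ?_⟩
  have h2 : Nat.card (zpowers z) ≤ 2 :=
    Nat.card_zpowers z ▸ orderOf_le_of_pow_eq_one (by norm_num) ((sq z).trans h'.t2)
  rw [card_eq_card_quotient_mul_card_subgroup (zpowers z)]
  rw [Fintype.card_fin] at hc
  nlinarith

theorem exists_carm (ht : orderOf t = 2) (hm : 2 ≤ m)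
    (h : IsNonsplitDoubleCover (centralizer ({t} : Set G)) (alternatingGroup (Fin (m + 2)))) :
    ∃ y, Carm y m t ∧ gen y m = centralizer {t} := by
  obtain ⟨X, h1, h2, h3⟩ := Cv.exists_gens ht hm h
  let x : ℕ → G := fun i => if h : i < m then X ⟨i, h⟩ else 1
  have hx : ∀ i (h : i < m), x i = X ⟨i, h⟩ := fun i h => dif_pos h
  exact ⟨x, ⟨fun i hi => hx i hi ▸ h1 _, fun i hi j hj n => hx i hi ▸ hx j hj ▸ h2 _ _ (by simpa using n),
    mul_self_of_orderOf_eq_two ht, fun i hi => hx i hi ▸ mem_cent_iff.1 (h3.le (subset_closure ⟨_, rfl⟩))⟩,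
    by rw [← range_fin, ← h3]; congr 2; exact funext fun i => hx i i.2⟩

/-- systems that agree modulo a central subgroup of order 3 are equal -/
theorem Carm.unique {y' : ℕ → G} {t' x : G} (h : Carm y m t) (h' : Carm y' m t') (hm : 3 ≤ m)
    (x3 : x ^ 3 = 1) (c : ∀ i, i < m → Commute x (y i)) (e : ∀ i, i < m → y' i * (y i)⁻¹ ∈ zpowers x) :
    ∀ i, i < m → y' i = y i := by
  have cz : ∀ i, i < m → ∀ u ∈ zpowers x, Commute u (y i) := fun i hi _ ⟨k, f⟩ => f ▸ (c i hi).zpow_left k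
  have cc : ∀ u ∈ zpowers x, ∀ v ∈ zpowers x, Commute u v := fun _ ⟨k, f⟩ _ ⟨l, f'⟩ =>
    f ▸ f' ▸ (Commute.refl x).zpow_zpow k l
  have k : ∀ i, i < m → ∀ j, j < m → i ≠ j → y' i * (y i)⁻¹ * (y' j * (y j)⁻¹) = 1 := fun i hi j hj n => by
    have a := mul_mem (e i hi) (e j hj)
    have b := (cz i hi _ a).mul_right (cz j hj _ a)
    have d := h'.t2
    rw [← h'.sq i hi j hj n, ← inv_mul_cancel_right (y' i) (y i), ← inv_mul_cancel_right (y' j) (y j),
      (cz i hi _ (e j hj)).symm.mul_mul_mul_comm, ← pow_two, b.mul_pow, (b.pow_pow 2 2).mul_pow,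
      h.sq i hi j hj n, pow_two t, h.t2, mul_one, pow_two, pow_two] at d
    exact eq_one_of_sq x3 a (eq_one_of_sq x3 (mul_mem a a) d)
  intro i hi
  obtain ⟨j, hj, l, hl, a, b, d⟩ : ∃ j < m, ∃ l < m, i ≠ j ∧ i ≠ l ∧ j ≠ l := by
    rcases (by omega : i = 0 ∨ i = 1 ∨ 2 ≤ i) with rfl | rfl | f
    exacts [⟨1, by omega, 2, by omega, by simp⟩, ⟨0, by omega, 2, by omega, by simp⟩,
      ⟨0, by omega, 1, by omega, by omega⟩]
  refine mul_inv_eq_one.1 (eq_one_of_sq x3 (e i hi) ?_)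
  nth_rewrite 1 [eq_inv_of_mul_eq_one_left (k i hi j hj a)]
  rw [eq_inv_of_mul_eq_one_left (k i hi l hl b), ← mul_inv_rev, k l hl j hj d.symm, inv_one]

section
variable [Finite G]

theorem setupK' (h : Carm y 6 t) (hg : gen y 6 = centralizer {t}) (hc : 40320 ≤ Nat.card (gen y 6)) :
    ∃ K : ℕ → G, K 0 = t ∧ Rels RK K ∧ gen K 10 = centralizer {t} ∧ Emb pK K 10 ∧
      ∀ i, i < 6 → y i = evW K (nthW FC i) := by
  have hom := hom_of_bnd bndC pC_rels (by decide +kernel) cardC_ge h.rc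
  have hK := (hom.rels pC_RK (by decide +kernel)).subW
  have hF : ∀ i, i < 6 → y i = evW (fun i => evW y (nthW EC i)) (nthW FC i) := fun i hi => by
    have := hom.rels pC_F (by decide +kernel) _ (List.mem_map_of_mem (List.mem_range.2 hi))
    rwa [evW_append, evW_subW, evW_cons, xl_odd, evW_nil, mul_one, mul_inv_eq_one, eq_comm] at this
  have e : gen (fun i => evW y (nthW EC i)) 10 = gen y 6 :=
    le_antisymm (gen_le fun i _ => nthW_mem_gen y (by decide +kernel) i)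
      (gen_le fun i hi => hF i hi ▸ nthW_mem_gen _ (by decide +kernel) i)
  exact ⟨_, h.eq (by norm_num), hK, e.trans hg,
    (hom_of_bnd bndK pK_rels (by decide +kernel) cardK.ge hK).emb_of_card (by rwa [e, cardK]), hF⟩

theorem emb_M {x : ℕ → G} (h : Rels RM x) (x0 : x 0 ≠ 1) : Emb pL x 11 :=
  have : IsSimpleGroup (gen pL 11) :=
    genL' ▸ (have := H16.simple_sMcL; (topEquiv (G := Spor.McL)).isSimpleGroup)
  (hom_of_bnd bndM pL_rels (by decide +kernel) cardL_ge h).emb_of_simple (by norm_num) x0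

theorem finalM' {x : ℕ → G} (h : Rels RKW x) (x0 : x 0 ≠ 1) (em : Emb pK (rx x ρK) 10)
    (hg : gen (rx x ρK) 10 = centralizer {x 0}) : Emb pL x 11 ∧ gen x 11 = ⊤ := by
  have eL := emb_M (relsM h x0 em hg) x0
  obtain ⟨e⟩ := finalM h x0 em hg
  exact ⟨eL, eq_of_le_of_card_ge le_top (by
    rw [eL.card, cardL, card_top, Nat.card_congr e.toEquiv, H16.card_sMcL])⟩

end

/-- the images of `y₀, …, y₅, q, x` in `McL` -/
def FL : List (List ℕ) := [[17, 2, 14], [16, 15, 2], [16, 15, 21, 16, 2, 14, 20], [16, 15, 21, 15, 2, 17, 20],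
  [16, 15, 20, 14, 2, 16, 21], [16, 15, 20, 17, 2, 15, 21], [19, 16, 15, 18, 17, 15, 18, 8], []]
noncomputable def pM (i : ℕ) : Spor.McL := evW pL (nthW FL i)

variable {Γ : Type} [Group Γ]

theorem tau_of {Z : Subgroup Γ} [Z.Normal] {X : ℕ → Γ ⧸ Z} (e : Emb pL X 11) (top : gen X 11 = ⊤) :
    ∃ σ : Γ →* Spor.McL, Function.Surjective σ ∧ σ.ker = Z ∧
      ∀ (g : Γ) i, (g : Γ ⧸ Z) = evW X (nthW FL i) → σ g = pM i := by
  obtain ⟨θ, hi, h⟩ := e.symm
  let ι : Γ →* gen X 11 := (QuotientGroup.mk' Z).codRestrict _ fun g => top.ge (mem_top _)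
  have hι : Function.Surjective ι := fun u =>
    let ⟨g, e⟩ := QuotientGroup.mk'_surjective Z u; ⟨g, Subtype.ext e⟩
  refine ⟨θ.comp ι, (MonoidHom.range_eq_top.1 ((range_hom h).trans genL')).comp hι, ?_, fun g i e => ?_⟩
  · ext g
    rw [MonoidHom.mem_ker, MonoidHom.comp_apply, map_eq_one_iff θ hi, Subtype.ext_iff]
    exact QuotientGroup.eq_one_iff g
  · have w := nthW_lt (m := 11) (E := FL) (by decide +kernel) i
    rw [pM, ← map_evW_subGen h w]
    exact congrArg θ (Subtype.ext (e.trans (coe_evW_subGen X w).symm))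

theorem normal_zpowers {x : G} (h : x ∈ center G) : (zpowers x).Normal :=
  ⟨fun a ha g => by rwa [mem_center_iff.1 (zpowers_le.2 h ha) g, mul_inv_cancel_right]⟩

theorem exists_sigma [Finite Γ] {y : ℕ → Γ} {t x g : Γ} (h : Carm y 6 t) (t1 : t ≠ 1) (x3 : x ^ 3 = 1)
    (xc : x ∈ center Γ) (hC : centralizer {t} ≤ gen y 6 ⊔ zpowers x)
    (hc : 120960 ≤ Nat.card (centralizer ({t} : Set Γ)))
    (h1 : g * t * g⁻¹ * t = t * (g * t * g⁻¹)) (h2 : g * t * g⁻¹ ≠ t) :
    ∃ σ : Γ →* Spor.McL, Function.Surjective σ ∧ σ.ker = zpowers x ∧ ∀ i, i < 6 → σ (y i) = pM i := by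
  have := normal_zpowers xc
  let π := QuotientGroup.mk' (zpowers x)
  have cj : ∀ c : Γ, π (c * t * c⁻¹) = π t → c * t * c⁻¹ = t := fun c e =>
    eq_of_mod x3 (by rw [conj_mul, h.t2]; simp) h.t2 (mem_center_iff.1 xc t)
      ((QuotientGroup.eq_one_iff _).1 (show π _ = 1 by rw [map_mul, e, map_inv, mul_inv_cancel]))
  have e1 : (centralizer {t}).map π ≤ gen (fun i => π (y i)) 6 := (map_mono hC).trans (by
    rw [Subgroup.map_sup, map_gen, QuotientGroup.map_mk'_self, sup_bot_eq])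
  obtain ⟨K, k0, r, hg, em, hF⟩ := setupK' (h.map π) (le_antisymm (h.map π).le fun u hu => by
      obtain ⟨c, rfl⟩ := QuotientGroup.mk'_surjective _ u
      exact e1 ⟨c, mem_cent_iff.2 (mul_inv_eq_iff_eq_mul.1 (cj c (by
        rw [map_mul, map_mul, mem_cent_iff.1 hu, map_inv, mul_inv_cancel_right]))), rfl⟩) (by
    have a : Nat.card (π.ker ⊓ centralizer {t} : Subgroup Γ) ≤ 3 :=
      (card_le_of_le (inf_le_left.trans (QuotientGroup.ker_mk' _).le)).trans
        (Nat.card_zpowers x ▸ orderOf_le_of_pow_eq_one (by norm_num) x3)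
    have b := card_le_of_le e1
    rw [card_map_mul π] at hc
    nlinarith)
  have K1 : K 0 ≠ 1 := fun e => t1 (eq_one_of_sq x3 ((QuotientGroup.eq_one_iff _).1 (k0.symm.trans e)) h.t2)
  obtain ⟨X, hx, r'⟩ := stepW r em (k0 ▸ hg) K1 (g := π g) (by simpa only [k0, map_mul, map_inv] using congrArg π h1)
    fun e => h2 (cj g (by simpa only [k0, map_mul, map_inv] using e))
  have e : X 0 = K 0 := hx 0 (by norm_num)
  obtain ⟨a, b⟩ := finalM' r' (e ▸ K1) (em.congr hx) (by rw [gen_congr hx, hg, e, k0])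
  obtain ⟨σ, s1, s2, s3⟩ := tau_of a b
  refine ⟨σ, s1, s2, fun i hi => s3 _ _ ((hF i hi).trans ?_)⟩
  rw [← evW_congr hx (wfL_spec (E := FC) (by decide +kernel) ?_), evW_rx]
  all_goals interval_cases i <;> first | rfl | decide

theorem exists_eta {X : Type*} [Group X] {σ : G →* Spor.McL} (hσ : IsStemExtension σ)
    (h : 3 ≤ Nat.card σ.ker) {ξ : X →* Spor.McL} (hs : Function.Surjective ξ) (hξ : ξ.ker ≤ center X) :
    ∃ η : G →* X, ∀ g, ξ (η g) = σ g := by
  obtain ⟨η, e, -⟩ := H78.Schur.exists_hom_commutator Cfsg.Agent.S2047.result hσ (by simpa using h) ξ hs hξ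
  have top := H60.perfect_of_stem hσ (H60.perfect_of_simple H16.simple_sMcL H16.card_sMcL (by norm_num))
  exact ⟨η.comp ((MonoidHom.id G).codRestrict _ fun g => top.ge (mem_top g)),
    fun g => DFunLike.congr_fun e ⟨g, _⟩⟩

theorem eqns_carm : True := by
  have := @RCg.eq_1
  have := @FL.eq_1
  have := @pM.eq_1
  trivial

end H27.LY
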