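import Cfsg.Agent.Lib.CGT.DCE4
import Cfsg.Agent.Lib.McL27.Word
/-! Double coset enumeration (`H54.DC`) with an arbitrary solution `ap` of the word problem in `P` -/
set_option autoImplicit false
namespace H27.LY
open H54
section
variable (D : DC) (ap : ℕ → ℕ → ℕ)

/-- an item (tag, packed list) acting on a state -/
noncomputable def evI (p : ℕ × ℕ) (s : ℕ) : ℕ :=
  sel (Nat.beq p.1 0) (pe ap p.2 s)
    (sel (Nat.beq p.1 1) (pe (fun a s => pe ap (D.MT a).m s) p.2 s)
      (sel (Nat.beq p.1 2) (pe (fun a s => pe ap (D.MT a).b s) p.2 s)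
        (pe (fun a s => pe ap (D.FT a).v s) p.2 s)))

noncomputable def evL (ws : List (ℕ × ℕ)) (s : ℕ) : ℕ :=
  List.rec (motive := fun _ => ℕ) s (fun p _ ih => force ih (evI D ap p)) ws

noncomputable def eqv (ws ws' : List (ℕ × ℕ)) : Bool := Nat.beq (evL D ap ws D.B) (evL D ap ws' D.B)

noncomputable def same (cur n : ℕ) (ws : List (ℕ × ℕ)) (ks : ℕ) (ws' : List (ℕ × ℕ)) : Bool :=
  bor (band D.full (Nat.beq n 0)) (band (pall (D.kOk cur n) ks)
    (Nat.beq (evL D ap ws (evI D ap (3, ks) D.B)) (evL D ap ws' D.B)))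

noncomputable def stepK (cur : ℕ) (ih : List (ℕ × ℕ) → List (ℕ × ℕ) → ℕ → Bool)
    (t ζ stag dtag su sn du dn m ks : ℕ) (toks ws : List (ℕ × ℕ)) (n : ℕ) : Bool :=
  band (Nat.beq sn n) (sel (Nat.beq t 0)
    (band (same D ap cur n ws ks [(0, m), (0, su)]) (ih toks [(0, m), (0, du)] dn))
    (band (pall (D.mOk D.nM t) m) (band (same D ap cur n ws ks [(stag, m), (0, su)])
      (List.rec (motive := fun _ => Bool) false (fun p tl _ => band (Nat.beq p.1 ζ)
        (ih tl [(0, p.2), (dtag, m), (0, du)] dn)) toks))))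

noncomputable def run (cur : ℕ) (k : List (ℕ × ℕ) → ℕ → Bool) (st : Steps) :
    List (ℕ × ℕ) → List (ℕ × ℕ) → ℕ → Bool :=
  Steps.rec (motive := fun _ => List (ℕ × ℕ) → List (ℕ × ℕ) → ℕ → Bool)
    (fun toks ws n => List.rec (motive := fun _ => Bool) (k ws n) (fun _ _ _ => false) toks)
    (fun f d m ks _ ih toks ws n => band (Nat.ble (Nat.succ f) cur)
      (Fc.rec (motive := fun _ => Bool) (fun t u i v j => sel (Nat.beq d 0)
        (stepK D ap cur ih t (Nat.mul 2 t) 1 2 u i v j m ks toks ws n)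
        (stepK D ap cur ih t (Nat.succ (Nat.mul 2 t)) 2 1 v j u i m ks toks ws n)) (D.FT f))) st

noncomputable def go (f u i v j d ks : ℕ) (st : Steps) (toks : List (ℕ × ℕ)) (h x : ℕ) : Bool :=
  sel (Nat.beq d 0)
    (run D ap f (fun ws n => band (Nat.beq n i) (same D ap f n ws ks [(0, x), (0, u)])) st toks
      [(0, h), (0, v)] j)
    (run D ap f (fun ws n => band (Nat.beq n j) (same D ap f n ws ks [(0, x), (0, v)])) st toks
      [(0, h), (0, u)] i)

/-- the check of fact number `f` -/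
noncomputable def chkF (f : ℕ) (pf : Pf) : Bool :=
  Fc.rec (motive := fun _ => Bool) (fun t u i v j => Pf.rec (motive := fun _ => Bool)
    (fun kind r ρ d x ks st => sel (Nat.beq kind 0)
      (band (Nat.beq (D.nd j) f) (band (Nat.ble (Nat.succ i) j) (Nat.beq v 0)))
      (sel (Nat.beq kind 2)
        (band (Nat.beq t 0) (band (Nat.beq u 0) (band (Nat.beq i 0) (band (Nat.beq j 0)
          (anyL (Nat.beq v) D.K0)))))
        (sel (Nat.beq t 0) (go D ap f u i v j d ks st (D.rot r ρ) x x)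
          (List.rec (motive := fun _ => Bool) false (fun p tl _ =>
            band (Nat.beq p.1 (sel (Nat.beq d 0) (Nat.mul 2 t) (Nat.succ (Nat.mul 2 t))))
              (go D ap f u i v j d ks st tl p.2 0)) (D.rot r ρ))))) pf) (D.FT f)

/-- the check of `M`-fact number `a`: a given one, or `m * B = A` -/
noncomputable def chkM (a : ℕ) (AB : ℕ × ℕ) : Bool :=
  Mf.rec (motive := fun _ => Bool) (fun t m b =>
    bor (anyL (fun q => band (Nat.beq q.t t) (band (Nat.beq q.m m) (Nat.beq q.b b))) D.MB)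
      (band (pall (D.mOk a t) AB.1) (band (pall (D.mOk a t) AB.2)
        (band (eqv D ap [(0, m), (1, AB.2)] [(1, AB.1)]) (eqv D ap [(0, b), (2, AB.2)] [(2, AB.1)])))))
    (D.MT a)

end

section sem
variable {P G Y : Type*} [Group P] [Group G] [MulAction G Y]

/-- the hypotheses of an enumeration; `σ s g` says that the state `s` stands for `g` -/
structure Sem (D : DC) (ap : ℕ → ℕ → ℕ) (σ : ℕ → P → Prop) (lt : ℕ → P) (θ : P →* G) (z : ℕ → G)
    (y0 : Y) : Prop where
  step : ∀ l s g, σ s g → σ (ap l s) (lt l * g)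
  one : σ D.B 1
  inj : ∀ {s g h}, σ s g → σ s h → g = h
  z0 : z 0 = 1
  full : D.full = true → ∀ p, θ p • y0 = y0
  mb : ∀ q ∈ D.MB, MTru θ z lt q
  rt : ∀ R ∈ D.RT, apK θ z lt R = 1
  k0 : ∀ w ∈ D.K0, θ (pw lt w) • y0 = y0

variable {D : DC} {ap : ℕ → ℕ → ℕ} {σ : ℕ → P → Prop} {lt : ℕ → P} {θ : P →* G} {z : ℕ → G} {y0 : Y}

theorem Sem.img_evI (S : Sem D ap σ lt θ z y0) {s : ℕ} {g : P} (a : σ s g)
    (p : ℕ × ℕ) : σ (LY.evI D ap p s) (D.iv lt p * g) := by
  unfold LY.evI DC.iv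
  cases Nat.beq p.1 0
  · cases Nat.beq p.1 1
    · cases Nat.beq p.1 2
      · exact pe_sound (ap := fun a s => pe ap (D.FT a).v s) (f := fun a => pw lt (D.FT a).v)
          (σ := σ) (fun l s g a => pe_sound S.step _ a) p.2 a
      · exact pe_sound (ap := fun a s => pe ap (D.MT a).b s) (f := fun a => pw lt (D.MT a).b)
          (σ := σ) (fun l s g a => pe_sound S.step _ a) p.2 a
    · exact pe_sound (ap := fun a s => pe ap (D.MT a).m s) (f := fun a => pw lt (D.MT a).m)
          (σ := σ) (fun l s g a => pe_sound S.step _ a) p.2 a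
  · exact pe_sound S.step _ a

theorem Sem.img_evL (S : Sem D ap σ lt θ z y0) {s : ℕ} {g : P} (a : σ s g) :
    ∀ ws : List (ℕ × ℕ), σ (LY.evL D ap ws s) (D.ivL lt ws * g)
  | [] => by rw [DC.ivL, List.map_nil, List.prod_nil, one_mul]; exact a
  | p :: ws => by
    rw [DC.ivL, List.map_cons, List.prod_cons, mul_assoc]
    exact S.img_evI (S.img_evL a ws) p

theorem Sem.eq_of_eqv (S : Sem D ap σ lt θ z y0) {ws ws' : List (ℕ × ℕ)} (h : LY.eqv D ap ws ws' = true) :
    D.ivL lt ws = D.ivL lt ws' := by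
  have a := S.img_evL S.one ws
  have b := S.img_evL S.one ws'
  rw [mul_one] at a b
  rw [Nat.eq_of_beq_eq_true h] at a
  exact S.inj a b

theorem Sem.mtru (S : Sem D ap σ lt θ z y0) (h : AllEx (chkM D ap) D.nM) :
    ∀ a, a < D.nM → MTru θ z lt (D.MT a) := by
  intro a
  induction a using Nat.strong_induction_on with
  | _ a ih =>
    intro ha
    obtain ⟨AB, e⟩ := h a ha
    unfold LY.chkM at e
    generalize D.MT a = q at e
    obtain ⟨t, m, b⟩ := q
    simp only [bor_eq_true, band_eq_true, anyL_iff, Nat.beq_eq] at e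
    rcases e with ⟨q, hq, rfl, rfl, rfl⟩ | ⟨e1, e2, e3, e4⟩
    · exact S.mb q hq
    · have ih' : ∀ a', a' < a → MTru θ z lt (D.MT a') := fun a' h' => ih a' h' (h'.trans ha)
      have h1 := mtru_pw ih' e1
      have h2 := mtru_pw ih' e2
      have h3 := S.eq_of_eqv e3
      have h4 := S.eq_of_eqv e4
      rw [ivL_two, iv_zero] at h3 h4
      simp only [DC.ivL, List.map_cons, List.map_nil, List.prod_cons, List.prod_nil, mul_one] at h3 h4
      rw [← h3, ← h4, map_mul, map_mul, mul_assoc, ← h2, ← mul_assoc, ← mul_assoc] at h1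
      exact mul_right_cancel h1

theorem Sem.same (S : Sem D ap σ lt θ z y0) {cur n ks : ℕ} {ws ws' : List (ℕ × ℕ)}
    (h : ∀ f, f < cur → Tru θ z lt (D.yy θ z lt y0) (D.FT f)) (e : LY.same D ap cur n ws ks ws' = true) :
    θ (D.ivL lt ws) • D.yy θ z lt y0 n = θ (D.ivL lt ws') • D.yy θ z lt y0 n := by
  simp only [LY.same, bor_eq_true, band_eq_true, Nat.beq_eq] at e
  rcases e with ⟨e1, rfl⟩ | ⟨e1, e2⟩
  · rw [yy_zero, S.full e1, S.full e1]
  · have a := S.img_evL (S.img_evI S.one (3, ks)) ws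
    have b := S.img_evL S.one ws'
    rw [e2] at a
    have h1 := S.inj a b
    rw [mul_one, mul_one] at h1
    have h2 : D.iv lt (3, ks) ∈ (MulAction.stabilizer G (D.yy θ z lt y0 n)).comap θ :=
      pw_mem (f := fun a => pw lt (D.FT a).v) (fun a ha => kOk_spec S.z0 h ha) e1
    rw [← h1, map_mul, mul_smul, show θ (D.iv lt (3, ks)) • _ = _ from h2]

theorem Sem.stepK (S : Sem D ap σ lt θ z y0) {cur : ℕ}
    (h : ∀ f, f < cur → Tru θ z lt (D.yy θ z lt y0) (D.FT f))
    {ih : List (ℕ × ℕ) → List (ℕ × ℕ) → ℕ → Bool} {t ζ stag dtag su sn du dn m ks n : ℕ}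
    {toks ws : List (ℕ × ℕ)}
    (h1 : xl z ζ • θ (pw lt su) • D.yy θ z lt y0 sn = θ (pw lt du) • D.yy θ z lt y0 dn)
    (h0 : t = 0 → xl z ζ = 1)
    (h2 : pall (D.mOk D.nM t) m = true →
      xl z ζ * θ (D.iv lt (stag, m)) = θ (D.iv lt (dtag, m)) * xl z ζ)
    (e : LY.stepK D ap cur ih t ζ stag dtag su sn du dn m ks toks ws n = true) :
    ∃ toks' ws' n', ih toks' ws' n' = true ∧ apK θ z lt toks' • θ (D.ivL lt ws') • D.yy θ z lt y0 n' =
      apK θ z lt toks • θ (D.ivL lt ws) • D.yy θ z lt y0 n := by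
  unfold LY.stepK at e
  rw [band_eq_true, Nat.beq_eq] at e
  obtain ⟨rfl, e⟩ := e
  cases ht : Nat.beq t 0
  · rw [ht, sel_false, band_eq_true, band_eq_true] at e
    obtain ⟨e1, e2, e3⟩ := e
    cases toks with
    | nil => exact Bool.noConfusion e3
    | cons p tl =>
      have e3' : band (Nat.beq p.1 ζ) (ih tl [(0, p.2), (dtag, m), (0, du)] dn) = true := e3
      rw [band_eq_true, Nat.beq_eq] at e3'
      refine ⟨_, _, _, e3'.2, ?_⟩
      rw [S.same h e2, apK, e3'.1, ivL_two, ivL_three, iv_zero, iv_zero, iv_zero]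
      simp only [map_mul, mul_smul]
      rw [← h1, ← mul_smul (xl z ζ) (θ (D.iv lt (stag, m))), h2 e1, mul_smul]
  · rw [ht, sel_true, band_eq_true] at e
    refine ⟨_, _, _, e.2, ?_⟩
    rw [S.same h e.1, ivL_two, ivL_two, iv_zero, iv_zero, iv_zero]
    simp only [map_mul, mul_smul]
    rw [← h1, h0 (Nat.eq_of_beq_eq_true ht), one_smul]

theorem Sem.run (S : Sem D ap σ lt θ z y0) (hM : ∀ a, a < D.nM → MTru θ z lt (D.MT a)) {cur : ℕ}
    (h : ∀ f, f < cur → Tru θ z lt (D.yy θ z lt y0) (D.FT f)) {k : List (ℕ × ℕ) → ℕ → Bool} :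
    ∀ (st : Steps) (toks ws : List (ℕ × ℕ)) (n : ℕ), LY.run D ap cur k st toks ws n = true →
      ∃ ws' n', k ws' n' = true ∧ θ (D.ivL lt ws') • D.yy θ z lt y0 n' =
        apK θ z lt toks • θ (D.ivL lt ws) • D.yy θ z lt y0 n
  | .nil, [], ws, n, e => ⟨ws, n, e, by rw [apK, one_smul]⟩
  | .nil, _ :: _, _, _, e => Bool.noConfusion e
  | .cons f d m ks st, toks, ws, n, e => by
    have e' : band (Nat.ble (Nat.succ f) cur)
      (Fc.rec (motive := fun _ => Bool) (fun t u i v j => sel (Nat.beq d 0)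
        (LY.stepK D ap cur (LY.run D ap cur k st) t (Nat.mul 2 t) 1 2 u i v j m ks toks ws n)
        (LY.stepK D ap cur (LY.run D ap cur k st) t (Nat.succ (Nat.mul 2 t)) 2 1 v j u i m ks toks ws n))
        (D.FT f)) = true := e
    rw [band_eq_true, Nat.ble_eq] at e'
    have h1 := h f e'.1
    have e2 := e'.2
    generalize D.FT f = q at h1 e2
    obtain ⟨t, u, i, v, j⟩ := q
    have x0 : xl z (Nat.mul 2 t) = z t := xl_even z t
    have x1 : xl z (Nat.succ (Nat.mul 2 t)) = (z t)⁻¹ := xl_odd z t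
    have : ∃ toks' ws' n', LY.run D ap cur k st toks' ws' n' = true ∧
        apK θ z lt toks' • θ (D.ivL lt ws') • D.yy θ z lt y0 n' =
          apK θ z lt toks • θ (D.ivL lt ws) • D.yy θ z lt y0 n := by
      cases hd : Nat.beq d 0
      · rw [hd] at e2
        refine S.stepK h ?_ ?_ ?_ e2
        · rw [x1, inv_smul_eq_iff]; exact h1.symm
        · rintro rfl; rw [x1, S.z0, inv_one]
        · intro e
          rw [x1, inv_mul_eq_iff_eq_mul, ← mul_assoc, mtru_pw hM e, mul_inv_cancel_right]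
      · rw [hd] at e2
        refine S.stepK h ?_ ?_ ?_ e2
        · rw [x0]; exact h1
        · rintro rfl; rw [x0, S.z0]
        · intro e
          rw [x0, mtru_pw hM e]
    obtain ⟨toks', ws', n', a, b⟩ := this
    obtain ⟨ws'', n'', a', b'⟩ := S.run hM h st toks' ws' n' a
    exact ⟨ws'', n'', a', b'.trans b⟩

theorem Sem.rot (S : Sem D ap σ lt θ z y0) (r ρ : ℕ) : apK θ z lt (D.rot r ρ) = 1 := by
  have h : apK θ z lt (nthT D.RT r) = 1 := by
    rcases nthT_mem D.RT r with e | e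
    · rw [e, apK]
    · exact S.rt _ e
  rw [← List.take_append_drop ρ (nthT D.RT r), apK_append] at h
  rw [DC.rot, apK_append, mul_eq_one_comm, h]

theorem Sem.go (S : Sem D ap σ lt θ z y0) (hM : ∀ a, a < D.nM → MTru θ z lt (D.MT a)) {f : ℕ}
    (h : ∀ f', f' < f → Tru θ z lt (D.yy θ z lt y0) (D.FT f')) {u i v j d ks hh x : ℕ} {st : Steps}
    {toks : List (ℕ × ℕ)} (e : LY.go D ap f u i v j d ks st toks hh x = true) :
    (Nat.beq d 0 = true → θ (pw lt x) • θ (pw lt u) • D.yy θ z lt y0 i =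
      apK θ z lt toks • θ (pw lt hh) • θ (pw lt v) • D.yy θ z lt y0 j) ∧
    (Nat.beq d 0 = false → θ (pw lt x) • θ (pw lt v) • D.yy θ z lt y0 j =
      apK θ z lt toks • θ (pw lt hh) • θ (pw lt u) • D.yy θ z lt y0 i) := by
  unfold LY.go at e
  refine ⟨fun hd => ?_, fun hd => ?_⟩ <;>
  · rw [hd] at e
    obtain ⟨ws, n, a, b⟩ := S.run hM h _ _ _ _ e
    rw [band_eq_true, Nat.beq_eq] at a
    obtain ⟨rfl, a⟩ := a
    rw [S.same h a] at b
    simpa only [ivL_two, iv_zero, map_mul, mul_smul] using b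

/-- **soundness of the facts** -/
theorem Sem.tru (S : Sem D ap σ lt θ z y0) (hM : AllEx (chkM D ap) D.nM) {nF : ℕ} (hF : AllEx (chkF D ap) nF) :
    ∀ f, f < nF → Tru θ z lt (D.yy θ z lt y0) (D.FT f) := by
  have hM' := S.mtru hM
  intro f
  induction f using Nat.strong_induction_on with
  | _ f ih =>
    intro hf
    have h : ∀ f', f' < f → Tru θ z lt (D.yy θ z lt y0) (D.FT f') :=
      fun f' h' => ih f' h' (h'.trans hf)
    obtain ⟨⟨kind, r, ρ, d, x, ks, st⟩, e⟩ := hF f hf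
    unfold LY.chkF at e
    generalize hq : D.FT f = q at e
    obtain ⟨t, u, i, v, j⟩ := q
    dsimp only at e
    cases h0 : Nat.beq kind 0
    · rw [h0, sel_false] at e
      cases h2 : Nat.beq kind 2
      · rw [h2, sel_false] at e
        have hr := S.rot r ρ
        cases ht : Nat.beq t 0
        · rw [ht, sel_false] at e
          generalize D.rot r ρ = R at e hr
          cases R with
          | nil => exact Bool.noConfusion e
          | cons p tl =>
            have e' : band (Nat.beq p.1 (sel (Nat.beq d 0) (Nat.mul 2 t) (Nat.succ (Nat.mul 2 t))))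
              (LY.go D ap f u i v j d ks st tl p.2 0) = true := e
            rw [band_eq_true, Nat.beq_eq] at e'
            have a := S.go hM' h e'.2
            rw [apK, ← mul_assoc, mul_eq_one_comm, e'.1] at hr
            simp only [pw_zero, map_one, one_smul] at a
            cases hd : Nat.beq d 0
            · rw [hd, sel_false, show xl z (Nat.succ (Nat.mul 2 t)) = (z t)⁻¹ from xl_odd z t,
                inv_mul_eq_one] at hr
              show z t • _ = _
              rw [a.2 hd, hr, mul_smul]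
            · rw [hd, sel_true, show xl z (Nat.mul 2 t) = z t from xl_even z t] at hr
              show z t • _ = _
              rw [a.1 hd, ← mul_smul, ← mul_smul, mul_assoc, hr, one_smul]
        · rw [ht, sel_true] at e
          have a := S.go hM' h e
          rw [hr, one_smul, one_smul] at a
          show z t • _ = _
          rw [Nat.eq_of_beq_eq_true ht, S.z0, one_smul]
          cases hd : Nat.beq d 0
          · exact (MulAction.injective _ (a.2 hd)).symm
          · exact MulAction.injective _ (a.1 hd)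
      · rw [h2, sel_true] at e
        simp only [band_eq_true, Nat.beq_eq, anyL_iff] at e
        obtain ⟨rfl, rfl, rfl, rfl, w, hw, rfl⟩ := e
        simp only [Tru, yy_zero, S.z0, pw_zero, map_one, one_smul]
        exact (S.k0 _ hw).symm
    · rw [h0, sel_true] at e
      simp only [band_eq_true, Nat.beq_eq, Nat.ble_eq] at e
      obtain ⟨e1, e2, rfl⟩ := e
      simp only [Tru, pw_zero, map_one, one_smul, DC.yy]
      rw [D.gg_eq θ z lt (e1 ▸ hq) e2, mul_smul, mul_smul]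

theorem Sem.hz (S : Sem D ap σ lt θ z y0) {t k a b : ℕ}
    (e : nthT D.RT k = [(2 * t, a), (2 * t, b)]) : (z t)⁻¹ = θ (pw lt b) * z t * θ (pw lt a) := by
  have h : apK θ z lt (nthT D.RT k) = 1 := by
    rcases nthT_mem D.RT k with e' | e'
    · rw [e', apK]
    · exact S.rt _ e'
  rw [e, apK, apK, apK, one_mul, xl_even, ← mul_assoc] at h
  exact (eq_inv_of_mul_eq_one_left h).symm

end sem

section chain
variable {G Ω : Type*} [Group G] [MulAction G Ω] {c : Cfg} {pt : ℕ → Ω} {Z : Subgroup G}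

theorem size_mul_le (hZ : ∀ g ∈ Z, ∀ a : Ω, g • a = a) : ∀ {ch : BC} {J : Subgroup G} [Finite J],
    BLow pt ch J → Z ≤ J → ch.size * Nat.card Z ≤ Nat.card J
  | .nil, _, _, _, h => (one_mul _).le.trans (Subgroup.card_le_of_le h)
  | .cons b N _ _ _ rest, J, _, a, h => by
    have := finite_inf (J := J) (K := MulAction.stabilizer G (pt b))
    rw [card_eq_orbit_mul J (pt b)]
    exact (mul_assoc N _ _).le.trans (Nat.mul_le_mul (le_ncard_of_le_encard (Set.finite_range _) a.1)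
      (size_mul_le hZ a.2 (le_inf h fun g hg => hZ g hg _)))

theorem mem_of_base (hZ : ∀ g ∈ Z, ∀ a : Ω, g • a = a) : ∀ {ch : BC} {J : Subgroup G} [Finite J],
    BLow pt ch J → Z ≤ J → Nat.card J ≤ ch.size * Nat.card Z → ∀ g ∈ J,
      (∀ b ∈ ch.base, g • pt b = pt b) → g ∈ Z
  | .nil, J, _, _, h, h', g, hg, _ =>
    (Subgroup.eq_of_le_of_card_ge h (h'.trans (one_mul _).le)).ge hg
  | .cons b N K S ws rest, J, _, a, h, h', g, hg, hb => by
    have := finite_inf (J := J) (K := MulAction.stabilizer G (pt b))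
    refine mem_of_base hZ a.2 (le_inf h fun g hg => hZ g hg _) ?_ g ⟨hg, hb b List.mem_cons_self⟩
      fun b' hb' => hb b' (List.mem_cons_of_mem _ hb')
    have h1 := le_ncard_of_le_encard (Set.finite_range _) a.1
    rw [card_eq_orbit_mul J (pt b)] at h'
    exact Nat.le_of_mul_le_mul_left (h'.trans ((mul_assoc N _ _).le.trans (Nat.mul_le_mul_right _ h1)))
      ((Set.ncard_pos (Set.finite_range _)).2 ⟨_, MulAction.mem_orbit_self _⟩)

open Pointwise

/-- the set of the first `r` entries of a tuple -/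
def setObj (c : Cfg) (pt : ℕ → Ω) (r a : ℕ) : Set Ω := {x | ∃ k, k < r ∧ pt (c.get a k) = x}

noncomputable def setKey (c : Cfg) (r a : ℕ) : ℕ :=
  force a fun a => Nat.rec (motive := fun _ => ℕ) 0
    (fun k ih => Nat.lor ih (Nat.shiftLeft 1 (c.get a k))) r

noncomputable def setQ (c : Cfg) (r a : ℕ) : Bool := allLt (fun k => Nat.ble (Nat.succ (c.get a k)) c.n) r

noncomputable def setEq (c : Cfg) (r a a' : ℕ) : Bool := Nat.beq (setKey c r a) (setKey c r a')

theorem testBit_setKey (a j : ℕ) : ∀ r, (setKey c r a).testBit j = true ↔ ∃ k, k < r ∧ c.get a k = j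
  | 0 => by simp [setKey]
  | r + 1 => by
    show (setKey c r a ||| 1 <<< c.get a r).testBit j = true ↔ _
    rw [Nat.testBit_or, Bool.or_eq_true, testBit_setKey a j r, Nat.one_shiftLeft, Nat.testBit_two_pow]
    simp only [Nat.lt_succ_iff_lt_or_eq, or_and_right, exists_or, exists_eq_left, decide_eq_true_eq]

theorem lamSpec_set (X : Ctx c pt) {pl : ℕ → ℕ} {lt : ℕ → G} (h : ∀ l, Rep c pt (lt l) (pl l)) (r : ℕ) :
    LamSpec lt (setObj c pt r) (setQ c r) (wt c pl r) (setKey c r) (setEq c r) where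
  step := fun w a ha => by
    simp only [setQ, allLt_iff, Nat.ble_eq] at ha ⊢
    have r' := Img.wt X h (show Img c pt r a a (1 : G) from fun k hk => ⟨ha k hk, one_smul _ _⟩) w
    rw [mul_one] at r'
    exact ⟨fun k hk => (r' k hk).1, Set.ext fun x => ⟨fun ⟨k, hk, e⟩ => ⟨_, ⟨k, hk, rfl⟩, (r' k hk).2.trans e⟩,
      fun ⟨_, ⟨k, hk, e⟩, e'⟩ => ⟨k, hk, by rw [← (r' k hk).2, e]; exact e'⟩⟩⟩
  key := fun a a' ha ha' e => by
    simp only [setQ, allLt_iff, Nat.ble_eq] at ha ha'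
    refine Nat.eq_of_testBit_eq fun j => Bool.eq_iff_iff.2 ?_
    rw [testBit_setKey, testBit_setKey]
    constructor <;> rintro ⟨k, hk, rfl⟩
    · obtain ⟨k', hk', e'⟩ := e.le ⟨k, hk, rfl⟩
      exact ⟨k', hk', X.inj _ _ (ha' k' hk') (ha k hk) e'⟩
    · obtain ⟨k', hk', e'⟩ := e.ge ⟨k, hk, rfl⟩
      exact ⟨k', hk', X.inj _ _ (ha k' hk') (ha' k hk) e'⟩
  eqo := fun a a' e => by
    have e' := fun j => (testBit_setKey a j r).symm.trans
      (Nat.eq_of_beq_eq_true e ▸ testBit_setKey (c := c) a' j r)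
    exact Set.ext fun x => ⟨fun ⟨k, hk, f⟩ => let ⟨k', hk', f'⟩ := (e' _).1 ⟨k, hk, rfl⟩; ⟨k', hk', f' ▸ f⟩,
      fun ⟨k, hk, f⟩ => let ⟨k', hk', f'⟩ := (e' _).2 ⟨k, hk, rfl⟩; ⟨k', hk', f' ▸ f⟩⟩

end chain

section
variable {P G Ω Λ : Type*} [Group P] [Group G] [MulAction P Ω] [MulAction P Λ] {D : DC} {lt : ℕ → P}
  {θ : P →* G} {z : ℕ → G} {obj : ℕ → Λ} {qb : ℕ → Bool} {act : ℕ → ℕ → ℕ} {key : ℕ → ℕ}
  {eqo : ℕ → ℕ → Bool}

/-- `H54.stab_of_chain` when `Z` acts trivially -/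
theorem stab_of_chain [Finite P] {pt : ℕ → Ω} (X : Ctx D.c pt) (hr : ∀ l, Rep D.c pt (lt l) (D.pl l))
    (L : LamSpec lt obj qb act key eqo) (hM : ∀ a, a < D.nM → MTru θ z lt (D.MT a)) {a0 t N : ℕ}
    (h0 : qb a0 = true) {ch : BC} (e : blow D.c.n (fun a => wp D.c D.pl (D.MT a).m)
      (fun a => band (D.mOk D.nM t a) (eqo (act (D.MT a).m a0) a0)) ch [] = true)
    (hN : (N : ℕ∞) ≤ (MulAction.orbit P (obj a0)).encard) {Z : Subgroup P}
    (hZ : ∀ g ∈ Z, ∀ a : Ω, g • a = a) (hZ' : ∀ g ∈ Z, g • obj a0 = obj a0)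
    (hZz : ∀ g ∈ Z, z t * θ g * (z t)⁻¹ ∈ θ.range) (hc : Nat.card P ≤ ch.size * Nat.card Z * N) :
    (∀ p : P, p • obj a0 = obj a0 → ∃ p', z t * θ p = θ p' * z t) ∧
      (MulAction.orbit P (obj a0)).ncard = N := by
  let M : Subgroup P := MulAction.stabilizer P (obj a0) ⊓
    (θ.range.comap (MulAut.conj (z t)).toMonoidHom).comap θ
  have l : BLow pt ch M := bLow_of_check X (fun a ha => by
    simp only [DC.mOk, band_eq_true, Nat.ble_eq, Nat.beq_eq] at ha
    refine ⟨_, ⟨?_, pw lt (D.MT a).b, ?_⟩, repF_wp hr _⟩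
    · exact ((L.step _ _ h0).2.symm.trans (L.eqo _ _ ha.2))
    · have := hM a ha.1.1
      rw [MTru, ha.1.2] at this
      exact (mul_inv_eq_of_eq_mul this).symm) e
  obtain ⟨h1, h2⟩ := stabilizer_eq_of_orbit (M := M) inf_le_left
    (size_mul_le hZ l fun g hg => ⟨hZ' g hg, hZz g hg⟩) hN hc
  refine ⟨fun p hp => ?_, h2⟩
  obtain ⟨_, p', e⟩ : p ∈ M := h1 ▸ hp
  exact ⟨p', (eq_mul_of_mul_inv_eq e.symm)⟩

end

section orc
open H15.Mdl hiding bnot In grp
variable {G Ω : Type} [Group G] [MulAction G Ω] {c : Cfg} {pt : ℕ → Ω} {pl : ℕ → ℕ}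

omit [MulAction G Ω] in
theorem sem_of_pool {P Y : Type} [Group P] [MulAction P Ω] [MulAction G Y] {D : DC} {ap : ℕ → ℕ → ℕ}
    {σ : ℕ → P → Prop} {m : ℕ} {p lt : ℕ → P} (po : Pool c pt pl p m lt)
    (h1 : ∀ l s g, σ s g → σ (ap l s) (lt l * g)) (h2 : σ D.B 1) (h3 : ∀ {s g h}, σ s g → σ s h → g = h)
    {θ : P →* G} {x : ℕ → G} (hθ : ∀ i, i < m → θ (p i) = x i) {R : List (List ℕ)} (hx : Rels R x)
    {L : List (List ℕ × List (List ℕ × ℕ))} (e : D.semOk m R L = true) {y0 : Y}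
    (hf : ∀ p, θ p • y0 = y0) : Sem D ap σ lt θ (zz x m) y0 := by
  simp only [DC.semOk, band_eq_true, allL_iff] at e
  have h := hx.of_dvTo e.2.2
  refine ⟨h1, h2, h3, rfl, fun _ => hf, fun q hq => ?_, fun T hT => ?_, fun _ _ => hf _⟩
  · have := h _ (List.mem_append_right _ (List.mem_map_of_mem hq))
    rw [mbW, evW_append, evW_append, evW_invA, evW_append, evW_zl, evW_nil, mul_one,
      show xl (zz x m) (Nat.mul 2 q.t) = zz x m q.t from xl_even _ _, ← mul_assoc,
      mul_inv_eq_one] at this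
    rw [MTru, po.map_pw hθ (e.2.1 q hq).1, po.map_pw hθ (e.2.1 q hq).2, this]
  · rw [po.apK_eq hθ T (e.1 T hT)]
    exact h _ (List.mem_append_left _ (List.mem_map_of_mem hT))

variable {o : Ops} {M : Type} [Monoid M] {R : M → ℕ → Prop} {T : ℕ → ℕ} {ρ : G →* Mˣ}

theorem mw_list (h : Sound o R) {lt : ℕ → G} : ∀ w : List ℕ, (∀ l ∈ w, R (ρ (lt l) : Mˣ) (T l)) →
    R (ρ (w.map lt).prod : Mˣ) (mw o T w)
  | [], _ => by rw [List.map_nil, List.prod_nil, map_one]; exact h.one
  | l :: w, hw => by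
    rw [List.map_cons, List.prod_cons, map_mul, Units.val_mul]
    exact h.mul (hw l List.mem_cons_self) (mw_list h w fun l' h' => hw l' (List.mem_cons_of_mem _ h'))

/-- the certificate of the pool letter `l`, for the permutations and for the matrices -/
noncomputable def slp2 (c : Cfg) (pl nt : ℕ → ℕ) (o : Ops) (T : ℕ → ℕ) (ok : ℕ → Bool) (m l : ℕ)
    (AB : List ℕ × List ℕ) : Bool :=
  band (slpAt c pl nt m l AB) (sel (Nat.ble (Nat.succ l) (Nat.mul 2 m)) true
    (force (T l) fun t => band (ok t) (o.eqv (force (mw o T AB.2) (o.mul t)) (mw o T AB.1))))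

theorem exists_pool2 (X : Ctx c pt) (hs : Sound o R) {nt : ℕ → ℕ} {ok : ℕ → Bool} {m k : ℕ} {x : ℕ → G}
    (hx : ∀ l, l < 2 * m → Rep c pt (xl x l) (pl l) ∧ R (ρ (xl x l) : Mˣ) (T l))
    (hok : ∀ a, ok a = true → ∃ A, R A a) (h : AllEx (slp2 c pl nt o T ok m) (k + 1))
    (hm : 2 * m ≤ k + 1) (ht : ∀ l, k ≤ l → pl l = pl k ∧ T l = T k) :
    ∃ lt, Pool c pt pl x m lt ∧ ∀ l, R (ρ (lt l) : Mˣ) (T l) := by
  have h0 : ∀ l, l < k + 1 → c.code (nt l) = pl l := fun l hl => by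
    obtain ⟨AB, e⟩ := h l hl
    simp only [slp2, slpAt, force_eq, band_eq_true, Nat.beq_eq] at e
    exact e.1.1
  have key : ∀ l, l < k + 1 → ∃ g, (Rep c pt g (pl l) ∧ g ∈ gen x m ∧ R (ρ g : Mˣ) (T l)) ∧
      (l < 2 * m → g = xl x l) := by
    intro l
    induction l using Nat.strong_induction_on with
    | _ l ih =>
      intro hl
      by_cases h1 : l < 2 * m
      · exact ⟨_, ⟨(hx l h1).1, xl_mem (mem_gen x (by omega)), (hx l h1).2⟩, fun _ => rfl⟩
      obtain ⟨AB, e⟩ := h l hl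
      simp only [slp2, slpAt, force_eq, band_eq_true, sel_eq, Nat.ble_eq,
        if_neg (show ¬ l.succ ≤ Nat.mul 2 m from h1), allL_iff, Nat.beq_eq] at e
      obtain ⟨⟨-, e1, e2⟩, e3, e4⟩ := e
      have : ∀ a, ∃ g, a < l → Rep c pt g (c.code (nt a)) ∧ g ∈ gen x m ∧ R (ρ g : Mˣ) (T a) := fun a => by
        by_cases ha : a < l
        · obtain ⟨g, r, _⟩ := ih a ha (by omega)
          exact ⟨g, fun _ => by rwa [h0 a (by omega)]⟩
        · exact ⟨1, fun h => absurd h ha⟩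
      choose lt hlt using this
      have hA := fun a ha => hlt a (e1 a (List.mem_append_left _ ha))
      have hB := fun a ha => hlt a (e1 a (List.mem_append_right _ ha))
      obtain ⟨A, hA'⟩ := hok _ e3
      have := (hs.eqv_iff (hs.mul hA' (mw_list hs _ fun a ha => (hB a ha).2.2))
        (mw_list hs _ fun a ha => (hA a ha).2.2)).1 e4
      refine ⟨_, ⟨Rep.of_div X (fun a ha => (hA a ha).1) (fun a ha => (hB a ha).1) e2,
        Subgroup.mul_mem _ (Subgroup.list_prod_mem _ ?_)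
          (Subgroup.inv_mem _ (Subgroup.list_prod_mem _ ?_)), ?_⟩, fun h => absurd h h1⟩
      · exact List.forall_mem_map.2 fun a ha => (hA a ha).2.1
      · exact List.forall_mem_map.2 fun a ha => (hB a ha).2.1
      · rwa [map_mul, map_inv, Units.val_mul, ← this, Units.mul_inv_cancel_right]
  have : ∀ l, ∃ g, (Rep c pt g (pl l) ∧ g ∈ gen x m ∧ R (ρ g : Mˣ) (T l)) ∧
      (l < 2 * m → g = xl x l) := fun l => by
    by_cases hl : l < k + 1
    · exact key l hl
    · obtain ⟨g, r, _⟩ := key k (by omega)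
      exact ⟨g, by rwa [(ht l (by omega)).1, (ht l (by omega)).2], fun h => by omega⟩
  choose lt hlt using this
  exact ⟨lt, ⟨fun l => (hlt l).1.1, fun l => (hlt l).1.2.1, fun l => (hlt l).2⟩, fun l => (hlt l).1.2.2⟩

/-- a letter acting on a vector (the low `W` bits) and a tuple of points -/
noncomputable def apV (c : Cfg) (pl T : ℕ → ℕ) (r : ℕ) (mv : ℕ → ℕ → ℕ) (W mW l a : ℕ) : ℕ :=
  force (force (T l) fun t => force (Nat.land a mW) (mv t)) fun v =>
    force (Nat.shiftRight a W) fun b => Nat.add v (Nat.shiftLeft (apT c pl r l b) W)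

variable {n w p : ℕ}

/-- the state of `g` -/
def stV (c : Cfg) (pt : ℕ → Ω) (r B w : ℕ) (ρ : G →* (Matrix (Fin n) (Fin n) (ZMod p))ˣ)
    (v : Matrix (Fin n) (Fin 1) (ZMod p)) (a : ℕ) (g : G) : Prop :=
  Img c pt r B (a >>> (w * n)) g ∧ RM n 1 w p ((ρ g).val * v) (a &&& (2 ^ (w * n) - 1))

variable {ρ : G →* (Matrix (Fin n) (Fin n) (ZMod p))ˣ} {v : Matrix (Fin n) (Fin 1) (ZMod p)} {r B : ℕ}

theorem stV_step (X : Ctx c pt) {lt : ℕ → G} (hr : ∀ l, Rep c pt (lt l) (pl l))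
    (hT : ∀ l, RM n n w p (ρ (lt l)).val (T l)) {mv : ℕ → ℕ → ℕ}
    (hm : ∀ A u a b, RM n n w p A a → RM n 1 w p u b → RM n 1 w p (A * u) (mv a b)) {W mW : ℕ}
    (hW : W = w * n) (hmW : mW = 2 ^ (w * n) - 1) (l s : ℕ) (g : G) (h : stV c pt r B w ρ v s g) :
    stV c pt r B w ρ v (apV c pl T r mv W mW l s) (lt l * g) := by
  subst hW hmW
  have a := hm _ _ _ _ (hT l) h.2
  have b := a.1
  rw [mul_one] at b
  show stV c pt r B w ρ v (mv (T l) (s &&& _) + apT c pl r l (s >>> _) <<< _) _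
  rw [stV, Nat.and_two_pow_sub_one_eq_mod (_ + _), Nat.shiftRight_eq_div_pow (_ + _), Nat.shiftLeft_eq,
    Nat.add_mul_div_right _ _ (by positivity), Nat.add_mul_mod_self_right, Nat.div_eq_of_lt b,
    Nat.mod_eq_of_lt b, zero_add, map_mul, Units.val_mul, Matrix.mul_assoc]
  have e := h.1.wlT X hr [l]
  rw [List.map_singleton, List.prod_singleton] at e
  exact ⟨e, a⟩

theorem stV_inj [NeZero p] {Z : Subgroup G}
    (h1 : ∀ g : G, (∀ k, k < r → g • pt (c.get B k) = pt (c.get B k)) → g ∈ Z)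
    (h2 : ∀ g ∈ Z, (ρ g).val * v = v → g = 1) {s : ℕ} {g h : G} (a : stV c pt r B w ρ v s g)
    (b : stV c pt r B w ρ v s h) : g = h :=
  (inv_mul_eq_one.1 (h2 _ (h1 _ fun k hk => by
    rw [mul_smul, (a.1 k hk).2, ← (b.1 k hk).2, inv_smul_smul]) (by
    rw [map_mul, Units.val_mul, Matrix.mul_assoc, a.2.eq_mat b.2, ← Matrix.mul_assoc, map_inv,
      Units.inv_mul, Matrix.one_mul]))).symm

end orc

theorem eqns_dcx : True := by
  have := @evI.eq_1
  have := @evL.eq_1
  have := @eqv.eq_1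
  have := @same.eq_1
  have := @stepK.eq_1
  have := @run.eq_1
  have := @go.eq_1
  have := @chkF.eq_1
  have := @chkM.eq_1
  have := @setObj.eq_1.{0}
  have := @setKey.eq_1
  have := @setQ.eq_1
  have := @setEq.eq_1
  have := @slp2.eq_1
  have := @apV.eq_1
  have := @stV.eq_1
  trivial

end H27.LY
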