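import Cfsg.Agent.Lib.McL27.MFinal
import Cfsg.Agent.Lib.CGT.DCE3
/-! Graphs of homomorphisms given on generators, quotients with a model, strongly embedded endgame -/
set_option autoImplicit false
namespace H27.LY
open H54 H27.W Subgroup H95

/-- the family of the words `E` -/
noncomputable abbrev wds {G : Type*} [Group G] (x : ℕ → G) (E : List (List ℕ)) (i : ℕ) : G := evW x (nthW E i)

section gr
variable {M N : Type} {G : Type*} [Group M] [Group N] [Group G] {p : ℕ → M} {x : ℕ → G} {m : ℕ}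

theorem hom_iff : Hom p x m ↔ ∀ u ∈ gen (fun i => (p i, x i)) m, u.1 = 1 → u.2 = 1 := by
  constructor
  · rintro ⟨θ, h⟩ u hu h1
    have : gen (fun i => (p i, x i)) m ≤ ((gen p m).subtype.prod θ).range := gen_le fun i hi =>
      ⟨subGen p m i, Prod.ext (coe_subGen p hi) (h i hi)⟩
    obtain ⟨v, rfl⟩ := this hu
    rw [show v = 1 from Subtype.ext h1, map_one]; rfl
  · intro h
    let D := gen (fun i => (p i, x i)) m
    have e : D.map (MonoidHom.fst M G) = gen p m := map_gen _ _ _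
    let f : D →* gen p m := ((MonoidHom.fst M G).comp D.subtype).codRestrict _ fun u => e.le ⟨u, u.2, rfl⟩
    have hf : Function.Bijective f := ⟨(injective_iff_map_eq_one f).2 fun u hu => Subtype.ext
      (Prod.ext (congrArg Subtype.val hu) (h u u.2 (congrArg Subtype.val hu))), fun v => by
        obtain ⟨u, hu, e'⟩ := e.ge v.2
        exact ⟨⟨u, hu⟩, Subtype.ext e'⟩⟩
    refine ⟨((MonoidHom.snd M G).comp D.subtype).comp (MulEquiv.ofBijective f hf).symm.toMonoidHom,
      fun i hi => ?_⟩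
    have : (MulEquiv.ofBijective f hf).symm (subGen p m i) = ⟨(p i, x i), mem_gen _ hi⟩ :=
      (MulEquiv.symm_apply_eq _).2 (Subtype.ext (coe_subGen p hi))
    exact congrArg (fun u : D => (u : M × G).2) this

theorem evW_pair (p : ℕ → M) (x : ℕ → G) (w : List ℕ) :
    evW (fun i => (p i, x i)) w = (evW p w, evW x w) :=
  Prod.ext (map_evW (MonoidHom.fst M G) _ w) (map_evW (MonoidHom.snd M G) _ w)

theorem rels_pair {R : List (List ℕ)} (hp : Rels R p) (hx : Rels R x) : Rels R fun i => (p i, x i) :=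
  fun w hw => by rw [evW_pair, hp w hw, hx w hw]; rfl

theorem _root_.H27.W.Hom.congr {p' : ℕ → M} {x' : ℕ → G} (h : Hom p x m) (e : ∀ i, i < m → p' i = p i)
    (e' : ∀ i, i < m → x' i = x i) : Hom p' x' m := by
  rwa [hom_iff, gen_congr (y := fun i => (p i, x i)) fun i hi => by rw [e i hi, e' i hi], ← hom_iff]

theorem gen_succ (x : ℕ → G) (m : ℕ) : gen x (m + 1) = gen x m ⊔ zpowers (x m) :=
  le_antisymm (gen_le fun _ hi => (Nat.lt_succ_iff_lt_or_eq.1 hi).elim
    (fun h => mem_sup_left (mem_gen x h)) fun h => h ▸ mem_sup_right (mem_zpowers _))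
    (sup_le (gen_mono x m.le_succ) (zpowers_le.2 (mem_gen x m.lt_succ_self)))

/-- a new generator that is a word in the old ones -/
theorem _root_.H27.W.Hom.add (h : Hom p x m) (w : List ℕ) (hw : wfL m [w] = true)
    (e : p m = evW p w) (e' : x m = evW x w) : Hom p x (m + 1) := by
  rw [hom_iff] at h ⊢
  rwa [gen_succ, sup_eq_left.2 (zpowers_le.2 ?_)]
  rw [e, e', ← evW_pair]
  exact evW_mem_gen _ (wfL_spec hw List.mem_cons_self)

theorem _root_.H27.W.Hom.trans {y : ℕ → N} (h : Hom p y m) (h' : Hom y x m) : Hom p x m := by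
  obtain ⟨θ, h⟩ := h
  obtain ⟨θ', h'⟩ := h'
  refine ⟨θ'.comp (θ.codRestrict _ fun u => (range_hom h).le ⟨u, rfl⟩), fun i hi => ?_⟩
  rw [← h' i hi]
  exact congrArg θ' (Subtype.ext ((h i hi).trans (coe_subGen y hi).symm))

theorem _root_.H27.W.Emb.symm {y : ℕ → N} (h : Emb p y m) : Emb y p m := by
  obtain ⟨θ, hi, h⟩ := h
  let e := (MonoidHom.ofInjective hi).trans (MulEquiv.subgroupCongr (range_hom h))
  refine ⟨(gen p m).subtype.comp e.symm.toMonoidHom, (gen p m).subtype_injective.comp e.symm.injective,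
    fun i hi => ?_⟩
  have : e.symm (subGen y m i) = subGen p m i :=
    (MulEquiv.symm_apply_eq _).2 (Subtype.ext ((coe_subGen y hi).trans (h i hi).symm))
  exact (congrArg Subtype.val this).trans (coe_subGen p hi)

theorem _root_.H27.W.Hom.words (h : Hom p x m) {E : List (List ℕ)} (wf : wfL m E = true) (k : ℕ) :
    Hom (wds p E) (wds x E) k := by
  rw [hom_iff] at h ⊢
  exact fun u hu => h u (gen_le (fun i _ => by rw [← evW_pair]; exact nthW_mem_gen _ wf i) hu)

theorem _root_.H27.W.Hom.nes {y : ℕ → N} (h : Hom y x m) {L : List (List ℕ × List ℕ)}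
    (hp : ∀ a ∈ L, ¬ At x a) (wf : wfA m L = true) : ∀ a ∈ L, ¬ At y a := fun a ha e =>
  hp a ha (h.eqs (L := [a]) (by simpa using e) ((allL_iff _ _).2 fun b hb =>
    List.mem_singleton.1 hb ▸ (allL_iff _ _).1 wf a ha) a List.mem_cons_self)

/-- the generator `m` normalises the earlier ones and its square is a word in them -/
noncomputable def ex2Ok (R : List (List ℕ)) (m : ℕ) : Bool :=
  band (cjOk R [m] (List.range m)) (anyL (fun r => band (eqL (r.take 2) [2 * m, 2 * m])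
    (wfL m [r.drop 2])) R)

theorem mem_or [Finite G] {R : List (List ℕ)} (ok : ex2Ok R m = true) (hx : Rels R x) {u : G}
    (hu : u ∈ gen x (m + 1)) : u * x m ∈ gen x m ∨ u ∈ gen x m := by
  simp only [ex2Ok, band_eq_true, anyL_iff] at ok
  obtain ⟨h1, r, hr, h2, h3⟩ := ok
  have n := norm_of_cjOk h1 hx (w := [2 * m]) (by
    simp [allL_iff, inJ, anyL_iff, Nat.shiftRight_eq_div_pow])
  rw [show genL x (List.range m) = gen x m by simp [genL, gen], evW_cons, xl_even, evW_nil, mul_one] at n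
  have s : x m * x m ∈ gen x m := by
    have := hx r hr
    rw [← List.take_append_drop 2 r, eq_of_eqL _ _ h2, evW_append] at this
    rw [evW_cons, evW_cons, evW_nil, xl_even, mul_one] at this
    rw [eq_inv_of_mul_eq_one_left this]
    exact inv_mem (evW_mem_gen x (wfL_spec h3 List.mem_cons_self))
  rw [gen_succ, ← SetLike.mem_coe, coe_mul_of_right_le_normalizer_left _ _ (zpowers_le.2 n)] at hu
  obtain ⟨a, ha, _, ⟨j, rfl⟩, rfl⟩ := hu
  obtain ⟨k, rfl | rfl⟩ := Int.even_or_odd' j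
  · exact Or.inr (mul_mem ha (by dsimp only; rw [zpow_mul, zpow_two]; exact zpow_mem s k))
  · refine Or.inl ?_
    dsimp only
    rw [zpow_add_one, zpow_mul, zpow_two, mul_assoc, mul_assoc]
    exact mul_mem ha (mul_mem (zpow_mem s k) s)

theorem card_ex2 [Finite G] {R : List (List ℕ)} (ok : ex2Ok R m = true) (hx : Rels R x) :
    Nat.card (gen x (m + 1)) ≤ 2 * Nat.card (gen x m) := by
  have h := relIndex_dvd_two_iff.2 ⟨x m, mem_gen x m.lt_succ_self, fun _ h => mem_or ok hx h⟩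
  rw [← relIndex_bot_left, ← relIndex_mul_relIndex ⊥ _ _ bot_le (gen_mono x m.le_succ),
    relIndex_bot_left, mul_comm]
  exact Nat.mul_le_mul_right _ (Nat.le_of_dvd two_pos h)

theorem _root_.H27.W.Hom.ex2 [Finite M] [Finite G] (h : Hom p x m) {R : List (List ℕ)}
    (ok : ex2Ok R m = true) (hp : Rels R p) (hx : Rels R x) (hn : p m ∉ gen p m) : Hom p x (m + 1) := by
  rw [hom_iff] at h ⊢
  intro u hu h1
  refine h u ((mem_or ok (rels_pair hp hx) hu).resolve_left fun e => hn ?_) h1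
  have := mem_map_of_mem (MonoidHom.fst M G) e
  rwa [map_gen, map_mul, MonoidHom.coe_fst, h1, one_mul] at this

variable {Ω Ω' : Type} [MulAction M Ω] [MulAction N Ω'] {c : Cfg} {pt : ℕ → Ω} {pt' : ℕ → Ω'} {nt : ℕ → ℕ}

theorem _root_.H27.W.WM.hom {y : ℕ → N} (W : WM c pt p nt m) (W' : WM c pt' y nt m) : Hom p y m := by
  refine hom_iff.2 fun u hu h => ?_
  have : ∃ q, Rep c pt u.1 q ∧ Rep c pt' u.2 q := by
    clear h
    induction hu using closure_induction with
    | mem _ h =>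
      obtain ⟨i, hi, rfl⟩ := h
      have r := W.rep (2 * i) (by omega)
      have r' := W'.rep (2 * i) (by omega)
      rw [xl_even] at r r'
      exact ⟨_, r, r'⟩
    | one => exact ⟨_, rep_one W.X, rep_one W'.X⟩
    | mul _ _ _ _ a b => exact let ⟨_, a, a'⟩ := a; let ⟨_, b, b'⟩ := b; ⟨_, a.mul W.X b, a'.mul W'.X b'⟩
    | inv _ _ a => exact let ⟨_, a, a'⟩ := a; ⟨_, a.inv W.X, a'.inv W'.X⟩
  obtain ⟨q, a, b⟩ := this
  exact (b.eqc_one_iff W'.X W'.K).1 ((a.eqc_one_iff W.X W.K).2 h)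

theorem _root_.H27.W.WM.words (W : WM c pt p nt m) (E : List (List ℕ)) {nt' : ℕ → ℕ} {k : ℕ}
    (e : allLt (fun l => band (wfL m [pickW E l]) (eqc c (cw c nt (pickW E l)) (c.code (nt' l)))) (2 * k)
      = true) : WM c pt (wds p E) nt' k := ⟨W.X, W.K, fun l hl => by
  have := (allLt_iff _ _).1 e l hl
  rw [band_eq_true] at this
  rw [← evW_pickW]
  exact (W.rep_evW (wfL_spec this.1 List.mem_cons_self)).of_eqc W.X this.2⟩

theorem nthW_lt {E : List (List ℕ)} (wf : wfL m E = true) (i : ℕ) : ∀ l ∈ nthW E i, l < 2 * m :=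
  (nthW_mem E i).elim (fun e => by simp [e]) (wfL_spec wf)

/-- `J` maps to `K`, the letters `x` to the letters `p`, with kernel in `Z` -/
def Quo (J : Subgroup G) (x : ℕ → G) (p : ℕ → M) (m : ℕ) (Z : Subgroup G) (K : Subgroup M) : Prop :=
  ∃ (σ : J →* M) (c : ℕ → J), (∀ i, i < m → J.subtype (c i) = x i) ∧ (∀ i, i < m → σ (c i) = p i) ∧
    (∀ u, σ u ∈ K) ∧ ∀ u, σ u = 1 → (u : G) ∈ Z

variable {J Z : Subgroup G} {K : Subgroup M}

theorem Quo.words (h : Quo J x p m Z K) {E : List (List ℕ)} (wf : wfL m E = true) (k : ℕ) :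
    Quo J (wds x E) (wds p E) k Z K :=
  let ⟨σ, c, h1, h2, h3⟩ := h
  ⟨σ, wds c E, fun i _ => by rw [map_evW, evW_congr h1 (nthW_lt wf i)],
    fun i _ => by rw [map_evW, evW_congr h2 (nthW_lt wf i)], h3⟩

theorem Quo.cl (h : Quo J x p m Z K) {A P : List (List ℕ × List ℕ)} (hc : Cl K p m A P)
    (wf : band (wfA (m + 1) A) (wfA (m + 1) P) = true) : ∀ g ∈ J, (∀ a ∈ A, At (upd x m g) a) →
      ∃ a ∈ P, evW (upd x m g) a.1 * (evW (upd x m g) a.2)⁻¹ ∈ Z := fun g hg hA => by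
  rw [band_eq_true] at wf
  obtain ⟨σ, c, h1, h2, h3, h4⟩ := h
  obtain ⟨a, ha, e⟩ := hc _ (h3 ⟨g, hg⟩) fun a ha => by
    have := (at_iff _ J.subtype_injective h1 ⟨g, hg⟩ wf.1 ha).2 (hA a ha)
    rw [At, ← map_upd σ h2 _ (wfA_spec wf.1 ha).1, ← map_upd σ h2 _ (wfA_spec wf.1 ha).2, this]
  have w := wfA_spec wf.2 ha
  rw [At, ← map_upd σ h2 _ w.1, ← map_upd σ h2 _ w.2, ← mul_inv_eq_one, ← map_inv, ← map_mul] at e
  have := h4 _ e
  rw [coe_mul, coe_inv] at this
  exact ⟨a, ha, (map_upd J.subtype h1 ⟨g, hg⟩ w.1).symm ▸ (map_upd J.subtype h1 ⟨g, hg⟩ w.2).symm ▸ this⟩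

theorem Quo.cent (h : Quo J x p m Z K) {j : ℕ} (hj : j < m) (hp : K ⊓ centralizer {p j} ≤ gen p m) :
    J ⊓ centralizer {x j} ≤ gen x m ⊔ Z := fun g hg => by
  obtain ⟨σ, c, h1, h2, h3, h4⟩ := h
  obtain ⟨u, hu, e⟩ : σ ⟨g, hg.1⟩ ∈ (gen c m).map σ := by
    rw [map_gen, gen_congr h2]
    refine hp ⟨h3 _, mem_cent_iff.2 ?_⟩
    rw [← h2 j hj, ← map_mul, ← map_mul]
    exact congrArg σ (J.subtype_injective (by rw [map_mul, map_mul, h1 j hj]; exact mem_cent_iff.1 hg.2))
  have a := mem_map_of_mem J.subtype hu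
  rw [map_gen, gen_congr h1] at a
  simpa using mul_mem (mem_sup_right (h4 (⟨g, hg.1⟩ * u⁻¹) (by simp [e]))) (mem_sup_left a)

theorem card_map_mul {A B : Type*} [Group A] [Group B] (f : A →* B) (K : Subgroup A) :
    Nat.card K = Nat.card (f.ker ⊓ K : Subgroup A) * Nat.card (K.map f) := by
  rw [← relIndex_ker, ← relIndex_bot_left, ← relIndex_bot_left (f.ker ⊓ K), ← inf_relIndex_right f.ker,
    relIndex_mul_relIndex _ _ _ bot_le inf_le_right]

theorem _root_.H27.W.Hom.two_mul [Finite M] (h : Hom p x m) {w : List ℕ} (wf : wfL m [w] = true)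
    (hp : evW p w ≠ 1) (hx : evW x w = 1) : 2 * Nat.card (gen x m) ≤ Nat.card (gen p m) := by
  obtain ⟨θ, h⟩ := h
  have w' := wfL_spec wf List.mem_cons_self
  rw [← card_top (G := gen p m), card_map_mul θ, ← MonoidHom.range_eq_map, range_hom h, inf_top_eq]
  exact Nat.mul_le_mul_right _ (one_lt_card_iff_ne_bot _ |>.2 fun e => hp (by
    rw [← coe_evW_subGen p w', mem_bot.1 (e.le ((map_evW_subGen h w').trans hx))]; rfl))

theorem rels_upd {R : List (List ℕ)} (h : Rels R x) (j : ℕ) (q : G)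
    (e : allL (allL fun l => bnot (Nat.beq (l / 2) j)) R = true) : Rels R (upd x j q) := fun w hw => by
  rw [← h w hw, evW, evW, List.map_congr_left fun l hl => ?_]
  have := (allL_iff _ _).1 ((allL_iff _ _).1 e w hw) l hl
  simp only [bnot_eq_true, Nat.beq_eq] at this
  simp [xl, upd, this]

section
variable {o : H15.Mdl.Ops} {A : Type*} [Monoid A] {R : A → ℕ → Prop} {T : ℕ → ℕ} {u : ℕ → Aˣ}

theorem mm_words (h : H15.Mdl.Sound o R) (a : MM R T m u) {E : List (List ℕ)} (wf : wfL m E = true) (k : ℕ) :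
    MM R (fun l => mw o T (pickW E l)) k (wds u E) := fun l _ => by
  rw [← evW_pickW]
  refine a.mw h _ ?_
  unfold pickW
  cases Nat.beq (Nat.land l 1) 0
  exacts [wf_invA _ _ (nthW_lt wf _) (by simp), nthW_lt wf _]

theorem mm_rx (a : MM R T m u) (ρ : List ℕ) {k : ℕ} (e : allLt (fun i => Nat.blt (nth ρ i) m) k = true) :
    MM R (fun l => T (rl ρ l)) k (rx u ρ) := fun l hl => by
  have h := Nat.blt_eq.mp ((allLt_iff _ _).1 e (l / 2) (by omega))
  have := a (rl ρ l) (by unfold rl; omega)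
  have h1 : rl ρ l / 2 = nth ρ (l / 2) := by unfold rl; omega
  have h2 : rl ρ l % 2 = l % 2 := by unfold rl; omega
  simpa [xl, rx, h1, h2] using this

noncomputable def eqsM (o : H15.Mdl.Ops) (T : ℕ → ℕ) (m : ℕ) (L : List (List ℕ × List ℕ)) : Bool :=
  band (wfA m L) (allL (fun a => force (mw o T a.1) fun b => force (mw o T a.2) (o.eqv b)) L)

theorem mm_eqs (h : H15.Mdl.Sound o R) (a : MM R T m u) {L : List (List ℕ × List ℕ)}
    (e : eqsM o T m L = true) : ∀ b ∈ L, At u b := fun b hb => by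
  simp only [eqsM, band_eq_true, allL_iff, force_eq] at e
  exact Units.ext ((h.eqv_iff (a.mw h _ (wfA_spec e.1 hb).1) (a.mw h _ (wfA_spec e.1 hb).2)).1 (e.2 b hb))

end

end gr

variable {G : Type*} [Group G]

theorem eq_one_of_sq {e x : G} (x3 : x ^ 3 = 1) (he : e ∈ zpowers x) (h : e * e = 1) : e = 1 := by
  obtain ⟨k, rfl⟩ := he
  have : (x ^ k) ^ 3 = 1 := by rw [← zpow_natCast, ← zpow_mul, mul_comm, zpow_mul, zpow_natCast, x3, one_zpow]
  rwa [pow_three, h, mul_one] at this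

/-- involutions that agree modulo a centralizing subgroup of order 3 are equal -/
theorem eq_of_mod {s t x : G} (x3 : x ^ 3 = 1) (s2 : s * s = 1) (t2 : t * t = 1) (tx : t * x = x * t)
    (h : s * t⁻¹ ∈ zpowers x) : s = t := by
  have c : Commute t (s * t⁻¹) := let ⟨k, e⟩ := h; e ▸ (show Commute t x from tx).zpow_right k
  refine mul_inv_eq_one.1 (eq_one_of_sq x3 h ?_)
  rw [mul_assoc, c.inv_left, ← mul_assoc, ← mul_assoc, s2, one_mul, ← mul_inv_rev, t2, inv_one]

/-- a proper subgroup containing the centralizers of its involutions has a large odd subgroup -/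
theorem se_odd [Finite G] {G0 : Subgroup G} {t : G} (ht : orderOf t = 2) (htG : t ∈ G0)
    (hC : centralizer {t} ≤ G0) (hconj : ∀ u ∈ G0, u * u = 1 → u ≠ 1 → ∃ g ∈ G0, g * t * g⁻¹ = u)
    {n : ℕ} (hn : Nat.card G0 = Nat.card (centralizer ({t} : Set G)) * n) (hne : G0 ≠ ⊤) :
    ∃ D ≤ G0, Odd (Nat.card D) ∧ n ∣ Nat.card D := by
  have cle : ∀ u ∈ G0, orderOf u = 2 → centralizer {u} ≤ G0 := fun u hu h2 c hc => by
    obtain ⟨g, hg, rfl⟩ := hconj u hu (mul_self_of_orderOf_eq_two h2) (ne_one_of_orderOf_eq_two h2)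
    have h3 : g⁻¹ * c * g ∈ G0 := hC (mem_cent_iff.2 (by
      calc _ = g⁻¹ * (c * (g * t * g⁻¹)) * g := by group
        _ = _ := by rw [mem_cent_iff.1 hc]; group))
    simpa [mul_assoc] using mul_mem (mul_mem hg h3) (inv_mem hg)
  have hSE : Cfsg.IsStronglyEmbedded G0 := by
    refine (Cfsg.Agent.S0223.result _ hne (even_iff_two_dvd.2 (ht ▸ G0.orderOf_dvd_natCard htG))).2
      ⟨cle, fun u hu s hs h2 h2' _ => ?_⟩
    obtain ⟨g, hg, rfl⟩ := hconj u hu (mul_self_of_orderOf_eq_two h2) (ne_one_of_orderOf_eq_two h2)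
    obtain ⟨k, hk, rfl⟩ := hconj s hs (mul_self_of_orderOf_eq_two h2') (ne_one_of_orderOf_eq_two h2')
    exact ⟨k * g⁻¹, mul_mem hk (inv_mem hg), by group⟩
  obtain ⟨u, hu, huG⟩ := H42.SE.exists_involution_not_mem hSE
  refine ⟨G0 ⊓ G0.map (MulAut.conj u).toMonoidHom, inf_le_left, hSE.2.2 u huG, ?_⟩
  set D := G0 ⊓ G0.map (MulAut.conj u).toMonoidHom
  have a1 : {g | ∃ n ∈ D, n * t * n⁻¹ = g} = {g | ∃ n ∈ G0, n * t * n⁻¹ = g} := by
    ext g
    refine ⟨fun ⟨n, hn, e⟩ => ⟨n, hn.1, e⟩, fun ⟨n, hn, e⟩ => ?_⟩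
    exact (Cfsg.Agent.S1225.result _ hSE u hu huG t g ht htG
      (by rw [← e, H9.orderOf_conj, ht]) (e ▸ mul_mem (mul_mem hn htG) (inv_mem hn))).1
  have a2 := H49.J1.card_eq_mul_ncard_conj D t
  have a3 := H49.J1.card_eq_mul_ncard_conj G0 t
  rw [inf_eq_right.2 hC, hn] at a3
  rw [a1, ← Nat.eq_of_mul_eq_mul_left Nat.card_pos a3] at a2
  exact a2 ▸ Dvd.intro_left _ rfl

theorem exists_comm [Finite G] (ho : Odd (Nat.card G)) (h : 31 * 37 ∣ Nat.card G)
    (h' : (31 * 37).Coprime (Nat.card G / (31 * 37))) :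
    ∃ a b : G, orderOf a = 31 ∧ orderOf b = 37 ∧ a * b = b * a := by
  have := Cfsg.Agent.S0205.result ho
  have := Fact.mk (show Nat.Prime 31 by norm_num)
  have := Fact.mk (show Nat.Prime 37 by norm_num)
  obtain ⟨K, hK⟩ := Cfsg.Agent.S0003.result (G := G) _ _ (Nat.mul_div_cancel' h).symm h'
  obtain ⟨a, ha⟩ := exists_prime_orderOf_dvd_card' (G := K) 31 (by rw [hK]; norm_num)
  obtain ⟨f, hf⟩ := exists_prime_orderOf_dvd_card' (G := K) 37 (by rw [hK]; norm_num)
  have : (zpowers f).Normal := normal_of_index_eq_minFac_card (by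
    have := (zpowers f).card_mul_index
    rw [Nat.card_zpowers, hf, hK] at this
    rw [hK, show (zpowers f).index = 31 by omega]; norm_num)
  let φ : K →* MulAut (zpowers f) := MulAut.conjNormal
  have h1 : φ a = 1 := orderOf_eq_one_iff.1 (Nat.eq_one_of_dvd_coprimes (by norm_num : Nat.Coprime 31 36)
    (ha ▸ orderOf_map_dvd φ a) (by
      have := orderOf_dvd_natCard (φ a)
      rwa [IsCyclic.card_mulAut, Nat.card_zpowers, hf, Nat.totient_prime Fact.out] at this))
  have h2 : a * f * a⁻¹ = f := by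
    simpa [φ] using congrArg Subtype.val (DFunLike.congr_fun h1 ⟨f, mem_zpowers f⟩)
  exact ⟨a, f, by rw [orderOf_coe, ha], by rw [orderOf_coe, hf],
    congrArg Subtype.val (mul_inv_eq_iff_eq_mul.1 h2)⟩

theorem conj_three (a b c : alternatingGroup (Fin 11)) (ha : orderOf a = 2) (hb : orderOf b = 2)
    (hc : orderOf c = 2) : IsConj a b ∨ IsConj a c ∨ IsConj b c := by
  have key : ∀ a : alternatingGroup (Fin 11), orderOf a = 2 → ∃ n, (n = 2 ∨ n = 4) ∧
      (a : Equiv.Perm (Fin 11)).cycleType = Multiset.replicate n 2 := fun a ha => by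
    rw [← orderOf_coe] at ha
    obtain ⟨n, e⟩ := Equiv.Perm.cycleType_prime_order (σ := (a : Equiv.Perm (Fin 11))) (ha ▸ Nat.prime_two)
    have h1 := Equiv.Perm.sum_cycleType_le (a : Equiv.Perm (Fin 11))
    have h2 := Equiv.Perm.sign_of_cycleType (a : Equiv.Perm (Fin 11))
    rw [ha] at e
    rw [e, Multiset.sum_replicate] at h1 h2
    rw [Equiv.Perm.mem_alternatingGroup.1 a.2, Multiset.card_replicate, eq_comm,
      neg_one_pow_eq_one_iff_even (by decide), Nat.even_iff] at h2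
    simp only [smul_eq_mul, Fintype.card_fin] at h1 h2
    exact ⟨_, by omega, e⟩
  have cj : ∀ {a b : alternatingGroup (Fin 11)} {n}, (n = 2 ∨ n = 4) →
      (a : Equiv.Perm (Fin 11)).cycleType = Multiset.replicate n 2 →
      (b : Equiv.Perm (Fin 11)).cycleType = Multiset.replicate n 2 → IsConj a b := fun h e e' =>
    alternatingGroup.isConj_of (Equiv.Perm.isConj_of_cycleType_eq (e.trans e'.symm)) (by
      rw [← Equiv.Perm.sum_cycleType, e, Multiset.sum_replicate, smul_eq_mul, Fintype.card_fin]; omega)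
  obtain ⟨i, hi, e1⟩ := key a ha
  obtain ⟨j, hj, e2⟩ := key b hb
  obtain ⟨k, hk, e3⟩ := key c hc
  rcases (by omega : i = j ∨ i = k ∨ j = k) with rfl | rfl | rfl
  exacts [Or.inl (cj hi e1 e2), Or.inr (Or.inl (cj hi e1 e3)), Or.inr (Or.inr (cj hj e2 e3))]

/-- what is used of the involution centralizer `2.A₁₁` -/
structure Cov (t : G) : Prop where
  ord : orderOf t = 2
  card : Nat.card (centralizer ({t} : Set G)) = 39916800
  nrm : ∀ N : Subgroup (centralizer ({t} : Set G)), N.Normal →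
    (∀ g ∈ N, (g : G) ∈ zpowers t) ∨ ∀ g, g * g ∈ N
  inv : ∀ u ∈ centralizer {t}, ∀ s ∈ centralizer {t}, ∀ h ∈ centralizer {t}, u * u = 1 → s * s = 1 →
    h * h = t → u ∉ zpowers t → s ∉ zpowers t → ∃ g ∈ centralizer {t}, g * s * g⁻¹ * u⁻¹ ∈ zpowers t

theorem cov_of [Finite G] {t : G} (ht : orderOf t = 2)
    (h : Cfsg.IsNonsplitDoubleCover (centralizer ({t} : Set G)) (alternatingGroup (Fin 11))) : Cov t := by
  have t2 := mul_self_of_orderOf_eq_two ht
  have t1 := ne_one_of_orderOf_eq_two ht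
  have card := Cv.card_cover h
  obtain ⟨h1, ⟨e⟩, -⟩ := h
  let π := e.toMonoidHom.comp (QuotientGroup.mk' (center (centralizer ({t} : Set G))))
  have hπ : Function.Surjective π := e.surjective.comp (QuotientGroup.mk'_surjective _)
  let t' : centralizer ({t} : Set G) := ⟨t, mem_cent_iff.2 rfl⟩
  have hZ : zpowers t' = center _ := eq_of_le_of_card_ge
    (zpowers_le.2 (mem_center_iff.2 fun g => Subtype.ext (mem_cent_iff.1 g.2)))
    (by rw [h1, Nat.card_zpowers, ← orderOf_coe, ht])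
  have hk : ∀ g, π g = 1 ↔ (g : G) ∈ zpowers t := fun g => by
    simp only [π, MonoidHom.comp_apply, MulEquiv.coe_toMonoidHom, EmbeddingLike.map_eq_one_iff,
      QuotientGroup.mk'_apply, QuotientGroup.eq_one_iff, ← hZ]
    exact ⟨fun ⟨k, e⟩ => ⟨k, congrArg Subtype.val e⟩, fun ⟨k, e⟩ => ⟨k, Subtype.ext e⟩⟩
  have sq : ∀ g u : centralizer ({t} : Set G), π g = π u → g * g = u * u := fun g u e => by
    have := (hk (g * u⁻¹)).1 (by rw [map_mul, map_inv, e, mul_inv_cancel])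
    rcases (mem_zpowers_iff_of_sq t2).1 this with f | f
    · rw [mul_inv_eq_one.1 (Subtype.ext f : g * u⁻¹ = 1)]
    · have f' : (g : G) = t * u := mul_inv_eq_iff_eq_mul.1 f
      refine Subtype.ext ?_
      rw [coe_mul, coe_mul, f', mul_assoc, ← mul_assoc (u : G), mem_cent_iff.1 u.2, ← mul_assoc, ← mul_assoc,
        t2, one_mul]
  refine ⟨ht, card, fun N hN => ?_, fun u hu s hs h hh u2 s2 h2 u1 s1 => ?_⟩
  · have := alternatingGroup.isSimpleGroup (α := Fin 11) (by simp)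
    refine ((hN.map π hπ).eq_bot_or_eq_top).imp (fun e g hg => (hk g).1 (e.le ⟨g, hg, rfl⟩)) fun e g => ?_
    obtain ⟨n, hn, e⟩ := e.ge (mem_top (π g))
    exact sq _ _ e ▸ mul_mem hn hn
  · have o : ∀ g : centralizer ({t} : Set G), (g : G) * g ∈ zpowers t → (g : G) ∉ zpowers t →
        orderOf (π g) = 2 := fun g a b => orderOf_eq_two_of (by rw [← map_mul, hk]; exact a) (mt (hk g).1 b)
    have no : ∀ g : centralizer ({t} : Set G), (g : G) * g = 1 → ¬ IsConj (π g) (π ⟨h, hh⟩) := fun g a b => by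
      obtain ⟨c, e⟩ := isConj_iff.1 b
      obtain ⟨c, rfl⟩ := hπ c
      have := congrArg Subtype.val (sq (c * g * c⁻¹) ⟨h, hh⟩ (by simpa using e))
      simp only [coe_mul, coe_inv, conj_mul, a, h2] at this
      exact t1 (by simpa using this.symm)
    rcases conj_three (π ⟨s, hs⟩) (π ⟨u, hu⟩) (π ⟨h, hh⟩) (o _ (s2 ▸ one_mem _) s1) (o _ (u2 ▸ one_mem _) u1)
      (o _ (h2 ▸ mem_zpowers t) fun e => by
        rcases (mem_zpowers_iff_of_sq t2).1 e with f | f
        · exact t1 (by rw [← h2, show h = 1 from f, one_mul])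
        · exact t1 (by rw [← h2, show h = t from f, t2]))
      with e | e | e
    · obtain ⟨c, e⟩ := isConj_iff.1 e
      obtain ⟨c, rfl⟩ := hπ c
      exact ⟨c, c.2, (hk (c * ⟨s, hs⟩ * c⁻¹ * ⟨u, hu⟩⁻¹)).1 (by simp [e])⟩
    · exact absurd e (no _ s2)
    · exact absurd e (no _ u2)

theorem Cov.ker {t : G} (h : Cov t) {M : Type*} [Group M] (θ : centralizer ({t} : Set G) →* M)
    {y : centralizer ({t} : Set G)} (hy : θ y * θ y ≠ 1) (u) (hu : θ u = 1) : (u : G) ∈ zpowers t :=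
  (h.nrm θ.ker inferInstance).resolve_right (fun e => hy (map_mul θ y y ▸ e y)) u hu

theorem Cov.conj {t s h r : G} (C : Cov t) (hs : s ∈ centralizer {t}) (hh : h ∈ centralizer {t})
    (hr : r ∈ centralizer {t}) (s2 : s * s = 1) (h2 : h * h = t) (s1 : s ∉ zpowers t)
    (e : r * s * r⁻¹ = t * s) : ∀ u ∈ centralizer {t}, u * u = 1 → u ≠ 1 → u ≠ t →
      ∃ g ∈ centralizer {t}, g * s * g⁻¹ = u := fun u hu u2 u1 ut => by
  have t2 := mul_self_of_orderOf_eq_two C.ord
  obtain ⟨g, hg, f⟩ := C.inv u hu s hs h hh u2 s2 h2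
    (fun f => ((mem_zpowers_iff_of_sq t2).1 f).elim u1 ut) s1
  rcases (mem_zpowers_iff_of_sq t2).1 f with f | f
  · exact ⟨g, hg, mul_inv_eq_one.1 f⟩
  · refine ⟨g * r, mul_mem hg hr, ?_⟩
    calc _ = g * (r * s * r⁻¹) * g⁻¹ := by group
      _ = t * (g * s * g⁻¹ * u⁻¹) * u := by rw [e, ← mul_assoc, mem_cent_iff.1 hg]; group
      _ = u := by rw [f, t2, one_mul]

theorem conj_into [Finite G] {H G0 : Subgroup G} (hle : H ≤ G0) {n : ℕ} (ho : ¬ 2 ∣ n)
    (hn : Nat.card G0 = Nat.card H * n) {u : G} (hu : u ∈ G0) (u2 : u * u = 1) :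
    ∃ g ∈ G0, g⁻¹ * u * g ∈ H := by
  have e : Nat.card (G0 ⧸ H.subgroupOf G0) = n := Nat.eq_of_mul_eq_mul_left (Nat.card_pos (α := H)) (by
    rw [← hn, mul_comm, ← Nat.card_congr (subgroupOfEquivOfLe hle).toEquiv,
      ← card_eq_card_quotient_mul_card_subgroup])
  obtain ⟨a, ha⟩ := (H9.isPGroup_zpowers_of_mul_self (x := (⟨u, hu⟩ : G0)) (Subtype.ext u2)).nonempty_fixed_point_of_prime_not_dvd_card
    (G0 ⧸ H.subgroupOf G0) (e ▸ ho)
  obtain ⟨g, rfl⟩ := QuotientGroup.mk_surjective a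
  have := QuotientGroup.eq.1 (ha ⟨_, mem_zpowers _⟩).symm
  exact ⟨g, g.2, by simpa [mem_subgroupOf, mul_assoc] using this⟩

theorem eqns_gen : True := by
  have := @ex2Ok.eq_1
  have := @Quo.eq_1.{0}
  have := @wds.eq_1.{0}
  have := @eqsM.eq_1
  trivial

end H27.LY
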